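import Cfsg.Agent.H709.PB.Guide
import Cfsg.Agent.H593.IMTits
import Cfsg.Agent.H488.PBRow.TitsThree

/-!
# S4826, the row of the Tits group (helper488, task 2078 of helper709)

`p = 2`: a real element of order 13 with centralizer of order 13; `p ≠ 2`: an irreducible character of degree divisible by
`p` (Itô-Michler, helper593) lies in the principal 2-block or in the principal 13-block, since otherwise its degree is
divisible by `2 ^ 9` and by 13.
-/

set_option autoImplicit false

universe u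

namespace Cfsg.Agent.H488.PBRow

open Subgroup Cfsg Cfsg.Agent.H133.PB Cfsg.Agent.H709.PB

section

variable {S : Type u} [Group S] [Finite S]

/-- the data -/
structure TitsOrd (S : Type u) [Group S] : Prop where
  card : Nat.card S = 17971200
  c3 : ∀ y : S, orderOf y = 3 → Nat.card (centralizer ({y} : Set S)) = 108
  c5 : ∀ y : S, orderOf y = 5 → Nat.card (centralizer ({y} : Set S)) = 50
  c13 : ∀ y : S, orderOf y = 13 → ¬ 2 ∣ Nat.card (centralizer ({y} : Set S))

omit [Finite S] in
theorem orderOf_dvd_cent {x y : S} (h : x * y = y * x) : orderOf x ∣ Nat.card (centralizer ({y} : Set S)) := by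
  have hm : x ∈ centralizer ({y} : Set S) := mem_centralizer_singleton_iff.2 h
  rw [← Subgroup.orderOf_mk x hm]
  exact orderOf_dvd_natCard _

theorem TitsOrd.cent13 (T : TitsOrd S) {x : S} (hx : orderOf x = 13) :
    Nat.card (centralizer ({x} : Set S)) = 13 := by
  have h2 := T.c13 x hx
  have h3 : ¬ 3 ∣ Nat.card (centralizer ({x} : Set S)) := fun h => by
    have : Fact (Nat.Prime 3) := ⟨by norm_num⟩
    obtain ⟨y, hy⟩ := exists_prime_orderOf_dvd_card' (G := centralizer ({x} : Set S)) 3 h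
    have h4 := orderOf_dvd_cent (mem_centralizer_singleton_iff.1 y.2).symm
    rw [T.c3 _ (by rw [Subgroup.orderOf_coe, hy]), hx] at h4
    norm_num at h4
  have h5 : ¬ 5 ∣ Nat.card (centralizer ({x} : Set S)) := fun h => by
    have : Fact (Nat.Prime 5) := ⟨by norm_num⟩
    obtain ⟨y, hy⟩ := exists_prime_orderOf_dvd_card' (G := centralizer ({x} : Set S)) 5 h
    have h4 := orderOf_dvd_cent (mem_centralizer_singleton_iff.1 y.2).symm
    rw [T.c5 _ (by rw [Subgroup.orderOf_coe, hy]), hx] at h4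
    norm_num at h4
  have h13 : 13 ∣ Nat.card (centralizer ({x} : Set S)) := by
    have h := orderOf_dvd_cent (x := x) (y := x) rfl
    rwa [hx] at h
  have hd : Nat.card (centralizer ({x} : Set S)) ∣ 2 ^ 11 * (3 ^ 3 * (5 ^ 2 * 13)) := by
    have := Subgroup.card_subgroup_dvd_card (centralizer ({x} : Set S))
    rw [T.card] at this
    norm_num
    exact this
  have hc : ∀ (r k : ℕ), r.Prime → ¬ r ∣ Nat.card (centralizer ({x} : Set S)) →
      Nat.Coprime (Nat.card (centralizer ({x} : Set S))) (r ^ k) := fun r k hr h =>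
    Nat.Coprime.pow_right _ ((Nat.Prime.coprime_iff_not_dvd hr).2 h).symm
  have hd2 := (hc 2 11 (by norm_num) h2).dvd_of_dvd_mul_left hd
  have hd3 := (hc 3 3 (by norm_num) h3).dvd_of_dvd_mul_left hd2
  have hd5 := (hc 5 2 (by norm_num) h5).dvd_of_dvd_mul_left hd3
  exact Nat.dvd_antisymm hd5 h13

theorem TitsOrd.nb2 (T : TitsOrd S) : NB 2 9 S := by
  have : Fact (Nat.Prime 2) := ⟨Nat.prime_two⟩
  refine NB.of_orders (a := 11) (by rw [T.card]; norm_num) fun y hy hy2 => ?_
  have hd : orderOf y ∣ 2 ^ 11 * (3 ^ 3 * (5 ^ 2 * 13)) := by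
    have := orderOf_dvd_natCard y
    rw [T.card] at this
    norm_num
    exact this
  have key : ∀ r : ℕ, r.Prime → ∀ k : ℕ, orderOf y ∣ r ^ k → orderOf y = r := fun r hr k h =>
    (Nat.prime_dvd_prime_iff_eq hy hr).1 (hy.dvd_of_dvd_pow h)
  rw [hy.dvd_mul, hy.dvd_mul, hy.dvd_mul] at hd
  rcases hd with h | h | h | h
  · exact absurd (key 2 (by norm_num) _ h) hy2
  · rw [T.c3 y (key 3 (by norm_num) _ h)]
    norm_num
  · rw [T.c5 y (key 5 (by norm_num) _ h)]
    norm_num
  · rw [T.cent13 (key 13 (by norm_num) 1 (by rw [pow_one]; exact h))]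
    norm_num

theorem TitsOrd.nb13 (T : TitsOrd S) {x : S} (hx : orderOf x = 13) : NB 13 1 S := by
  have : Fact (Nat.Prime 13) := ⟨by norm_num⟩
  exact NB.of_self (g := x) (IsPGroup.of_card (n := 1) (by rw [T.cent13 hx, pow_one])) ⟨1, by rw [hx, pow_one]⟩

end

theorem titsOrd {S : Type u} [Group S] (h : Cfsg.Lie.IsoTits S) : TitsOrd S := by
  have hc := Cfsg.Agent.NotCT.Orders.tits h
  have hfin : Finite S := by
    apply Nat.finite_of_card_ne_zero
    rw [hc]
    norm_num
  have hout := Cfsg.Agent.CpAutTits.Row.out h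
  have h2 := Cfsg.Agent.EvenType.ChevTwoTits.charTwo h
  refine ⟨hc, fun y hy => TitsThree.card_cent_three h hy, hout.cent, fun x hx hd => ?_⟩
  have : Fact (Nat.Prime 2) := ⟨Nat.prime_two⟩
  obtain ⟨y, hy⟩ := exists_prime_orderOf_dvd_card' (G := centralizer ({x} : Set S)) 2 hd
  exact Cfsg.Agent.H661.Spor.not_commute_two h2 (by rw [hc]; norm_num) hx
    (by rw [Subgroup.orderOf_coe, hy]) (mem_centralizer_singleton_iff.1 y.2).symm

/-- **The Tits group.** -/
theorem row_tits {S : Type u} [Group S] (h : Cfsg.Lie.IsoTits S) {p : ℕ} (hp : p.Prime) (hd : p ∣ Nat.card S) :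
    Cfsg.Agent.H133.PB.Row p S := by
  have T := titsOrd h
  have hfin : Finite S := by
    apply Nat.finite_of_card_ne_zero
    rw [T.card]
    norm_num
  obtain ⟨x, hx, hreal⟩ := (Cfsg.Agent.H661.Spor.hasReal_tits h).isConj
  have hx1 : x ≠ 1 := by
    rintro rfl
    rw [orderOf_one] at hx
    omega
  have hpf : Fact p.Prime := ⟨hp⟩
  have hIM := Cfsg.Agent.H593.IMTits.im_tits h hd
  have h13f : Fact (Nat.Prime 13) := ⟨by norm_num⟩
  have h13S : 13 ∣ Nat.card S := by rw [T.card]; norm_num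
  have h2S : 2 ∣ Nat.card S := by rw [T.card]; norm_num
  have hd' : p ∣ 2 ^ 11 * (3 ^ 3 * (5 ^ 2 * 13)) := by
    rw [T.card] at hd
    norm_num
    exact hd
  have key : ∀ r : ℕ, r.Prime → ∀ k : ℕ, p ∣ r ^ k → p = r := fun r hr k h =>
    (Nat.prime_dvd_prime_iff_eq hp hr).1 (hp.dvd_of_dvd_pow h)
  have hbig : p = 3 ∨ p = 5 → Row p S := fun h35 => by
    refine Row.of_IM hp hIM [(2, 9), (13, 1)] (by decide) ?_ ?_
    · intro y hy
      simp only [List.mem_cons, List.not_mem_nil, or_false] at hy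
      rcases hy with rfl | rfl
      · exact ⟨Nat.prime_two, by show 2 ≠ p; omega, h2S, T.nb2⟩
      · exact ⟨by norm_num, by show 13 ≠ p; omega, h13S, T.nb13 hx⟩
    · rw [T.card]
      rcases h35 with rfl | rfl <;> norm_num
  rw [hp.dvd_mul, hp.dvd_mul, hp.dvd_mul] at hd'
  rcases hd' with h1 | h1 | h1 | h1
  · obtain rfl := key 2 (by norm_num) _ h1
    refine Row.of_real_odd (q := 13) ⟨1, by rw [hx, pow_one]⟩ hx1 hreal ?_
    rw [T.cent13 hx]
    decide
  · exact hbig (Or.inl (key 3 (by norm_num) _ h1))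
  · exact hbig (Or.inr (key 5 (by norm_num) _ h1))
  · obtain rfl := key 13 (by norm_num) 1 (by rw [pow_one]; exact h1)
    refine Row.of_IM hp hIM [(2, 9)] (by decide) ?_ ?_
    · intro y hy
      simp only [List.mem_cons, List.not_mem_nil, or_false] at hy
      rcases hy with rfl
      exact ⟨Nat.prime_two, by norm_num, h2S, T.nb2⟩
    · rw [T.card]
      norm_num

end Cfsg.Agent.H488.PBRow
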